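import Mathlib
import Cfsg.Agent.KFacts.Unit.Point
import Cfsg.Agent.ClassicalGeometry.PSUAutTorus
set_option linter.all false

/-!
# The torus `diag(b, b⁻¹)`, `b` in the fixed field, at a hyperbolic pair
-/

set_option autoImplicit false

namespace Cfsg.Agent.KFacts.Unit

open Cfsg Cfsg.Agent.LieClassical.HermBasic Cfsg.Agent.LieClassical.HermSiegel
  Cfsg.Agent.LieClassical.HermGen Cfsg.Agent.LieClassical.SUBasic Matrix
  Cfsg.Agent.ClassicalGeometry.PSUAutBasic Cfsg.Agent.ClassicalGeometry.PSUAutSylow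
  Cfsg.Agent.ClassicalGeometry.PSUAutUnip Cfsg.Agent.ClassicalGeometry.PSUAutPhi
  Cfsg.Agent.ClassicalGeometry.PSUAutTorus

/-- A hyperbolic pair. -/
structure Hyp {F : Type*} [Field F] {n : ℕ} (q : ℕ) (e f : Fin n → F) : Prop where
  ee : hermForm n F q e e = 0
  ff : hermForm n F q f f = 0
  ef : hermForm n F q e f = 1

variable {F : Type*} [Field F] [Fintype F] {q n : ℕ}

namespace Hyp

variable {e f : Fin n → F}

theorem fe (H : Hyp q e f) (hF : Fintype.card F = q ^ 2) : hermForm n F q f e = 1 := by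
  rw [herm_swap hF e f, H.ef, one_pow]

omit [Fintype F] in
theorem ne_zero (H : Hyp q e f) : e ≠ 0 := by
  intro h; have := H.ef; rw [h, herm_zero_left] at this; exact zero_ne_one this

theorem ne_zero' (H : Hyp q e f) (hF : Fintype.card F = q ^ 2) : f ≠ 0 := by
  intro h; have := H.ef; rw [h, herm_zero_right hF] at this; exact zero_ne_one this

theorem symm (H : Hyp q e f) (hF : Fintype.card F = q ^ 2) : Hyp q f e := ⟨H.ff, H.ee, H.fe hF⟩

end Hyp

theorem exists_hyp (hF : Fintype.card F = q ^ 2) {u : Fin n → F} (hu0 : u ≠ 0) (hu : hermForm n F q u u = 0) :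
    ∃ f, Hyp q u f := by
  obtain ⟨f, hff, huf, -⟩ := exists_partner hF hu0 hu
  exact ⟨f, hu, hff, huf⟩

/-- `diag(b, b⁻¹)` at the hyperbolic pair `e, f`, for `b` in the fixed field. -/
def hyp (hF : Fintype.card F = q ^ 2) {e f : Fin n → F} (H : Hyp q e f) (b : F) (hb : b ≠ 0) (hbq : b ^ q = b) :
    SU n F q :=
  mkSU (hypMat q e f b) (by rw [det_hypMat H.ef (H.fe hF), hbq, mul_inv_cancel₀ hb])
    (hypMat_herm hF H.ee H.ff H.ef hb)

theorem act_hyp (hF : Fintype.card F = q ^ 2) {e f : Fin n → F} (H : Hyp q e f) {b : F} (hb : b ≠ 0)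
    (hbq : b ^ q = b) (v : Fin n → F) :
    act (hyp hF H b hb hbq) v = v + ((b⁻¹ - 1) * hermForm n F q v e) • f + ((b - 1) * hermForm n F q v f) • e := by
  rw [act_def, hyp, mat_mkSU, hypMat_mulVec H.ff, hbq]

theorem act_hyp_e (hF : Fintype.card F = q ^ 2) {e f : Fin n → F} (H : Hyp q e f) {b : F} (hb : b ≠ 0)
    (hbq : b ^ q = b) : act (hyp hF H b hb hbq) e = b • e := by
  rw [act_hyp, H.ee, H.ef, mul_zero, zero_smul, add_zero, mul_one, sub_smul, one_smul]
  abel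

theorem act_hyp_f (hF : Fintype.card F = q ^ 2) {e f : Fin n → F} (H : Hyp q e f) {b : F} (hb : b ≠ 0)
    (hbq : b ^ q = b) : act (hyp hF H b hb hbq) f = b⁻¹ • f := by
  rw [act_hyp, H.ff, H.fe hF, mul_zero, zero_smul, add_zero, mul_one, sub_smul, one_smul]
  abel

theorem act_hyp_of_orth (hF : Fintype.card F = q ^ 2) {e f : Fin n → F} (H : Hyp q e f) {b : F} (hb : b ≠ 0)
    (hbq : b ^ q = b) {v : Fin n → F} (he : hermForm n F q v e = 0) (hf : hermForm n F q v f = 0) :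
    act (hyp hF H b hb hbq) v = v := by
  rw [act_hyp, he, hf, mul_zero, zero_smul, add_zero, mul_zero, zero_smul, add_zero]

theorem hyp_one (hF : Fintype.card F = q ^ 2) {e f : Fin n → F} (H : Hyp q e f) (h0 : (1 : F) ≠ 0)
    (h1 : (1 : F) ^ q = 1) : hyp hF H 1 h0 h1 = 1 := by
  apply ext_act
  intro v
  rw [act_hyp, act_one, inv_one, sub_self, zero_mul, zero_mul, zero_smul, zero_smul, add_zero, add_zero]

theorem hyp_mul (hF : Fintype.card F = q ^ 2) {e f : Fin n → F} (H : Hyp q e f) {b c : F} (hb : b ≠ 0)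
    (hbq : b ^ q = b) (hc : c ≠ 0) (hcq : c ^ q = c) :
    hyp hF H b hb hbq * hyp hF H c hc hcq =
      hyp hF H (b * c) (mul_ne_zero hb hc) (by rw [mul_pow, hbq, hcq]) := by
  apply ext_act
  intro v
  rw [act_mul, act_hyp, act_hyp, act_hyp]
  simp only [herm_add_left, herm_smul_left, H.ee, H.ff, H.ef, H.fe hF]
  funext i
  simp only [Pi.add_apply, Pi.smul_apply, smul_eq_mul]
  field_simp
  ring

/-- The torus as a subgroup of `PSU`. -/
def HH (hF : Fintype.card F = q ^ 2) {e f : Fin n → F} (H : Hyp q e f) : Subgroup (PSU n F q) where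
  carrier := {x | ∃ (b : F) (hb : b ≠ 0) (hbq : b ^ q = b), x = pr n F q (hyp hF H b hb hbq)}
  one_mem' := ⟨1, one_ne_zero, one_pow q, by rw [hyp_one, map_one]⟩
  mul_mem' := by
    rintro _ _ ⟨b, hb, hbq, rfl⟩ ⟨c, hc, hcq, rfl⟩
    exact ⟨b * c, mul_ne_zero hb hc, by rw [mul_pow, hbq, hcq], by rw [← map_mul, hyp_mul]⟩
  inv_mem' := by
    rintro _ ⟨b, hb, hbq, rfl⟩
    refine ⟨b⁻¹, inv_ne_zero hb, by rw [inv_pow, hbq], ?_⟩
    rw [← map_inv]
    congr 1
    rw [inv_eq_iff_mul_eq_one, hyp_mul]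
    have h1 : b * b⁻¹ = 1 := mul_inv_cancel₀ hb
    apply ext_act
    intro v
    rw [act_hyp, act_one, h1, inv_one, sub_self, zero_mul, zero_mul, zero_smul, zero_smul, add_zero, add_zero]

theorem mem_HH {hF : Fintype.card F = q ^ 2} {e f : Fin n → F} {H : Hyp q e f} {x : PSU n F q} :
    x ∈ HH hF H ↔ ∃ (b : F) (hb : b ≠ 0) (hbq : b ^ q = b), x = pr n F q (hyp hF H b hb hbq) := Iff.rfl

/-- Conjugation of a transvection. -/
theorem hyp_conj_transv (hF : Fintype.card F = q ^ 2) {e f : Fin n → F} (H : Hyp q e f) {b : F} (hb : b ≠ 0)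
    (hbq : b ^ q = b) {μ : F} (hμ : μ + μ ^ q = 0) (hμ' : b ^ 2 * μ + (b ^ 2 * μ) ^ q = 0) :
    hyp hF H b hb hbq * transv hF e H.ee μ hμ * (hyp hF H b hb hbq)⁻¹ = transv hF e H.ee (b ^ 2 * μ) hμ' := by
  rw [transv, conj_siegel]
  apply ext_act
  intro v
  rw [act_siegel, act_transv, act_hyp_e, act_zero, smul_zero, herm_zero_right hF, herm_smul_right, hbq]
  funext i
  simp only [Pi.add_apply, Pi.smul_apply, smul_eq_mul, Pi.zero_apply]
  ring

theorem HH_conj_RR (hF : Fintype.card F = q ^ 2) {e f : Fin n → F} (H : Hyp q e f) {h x : PSU n F q}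
    (hh : h ∈ HH hF H) (hx : x ∈ RR hF e H.ee) : h * x * h⁻¹ ∈ RR hF e H.ee := by
  obtain ⟨b, hb, hbq, rfl⟩ := hh
  obtain ⟨μ, hμ, rfl⟩ := mem_RR.1 hx
  have hμ' : b ^ 2 * μ + (b ^ 2 * μ) ^ q = 0 := by
    rw [mul_pow, ← pow_mul, mul_comm 2 q, pow_mul, hbq]
    linear_combination b ^ 2 * hμ
  exact mem_RR.2 ⟨_, hμ', by rw [← map_inv, ← map_mul, ← map_mul, hyp_conj_transv hF H hb hbq hμ hμ']⟩

theorem HH_conj_QQ (hF : Fintype.card F = q ^ 2) {e f : Fin n → F} (H : Hyp q e f) {h x : PSU n F q}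
    (hh : h ∈ HH hF H) (hx : x ∈ QQ hF e H.ee) : h * x * h⁻¹ ∈ QQ hF e H.ee := by
  obtain ⟨b, hb, hbq, rfl⟩ := hh
  obtain ⟨w, μ, hs, rfl⟩ := mem_QQ.1 hx
  rw [← map_inv, ← map_mul, ← map_mul, conj_siegel]
  have h1 := hs.map (hyp hF H b hb hbq)
  have h2 : act (hyp hF H b hb hbq) e = b • e := act_hyp_e hF H hb hbq
  have h3 : IsSiegel q e (b ^ q • act (hyp hF H b hb hbq) w) (b * b ^ q * μ) := by
    refine ⟨H.ee, ?_, ?_⟩
    · have h4 := h1.orth
      rw [h2, herm_smul_right] at h4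
      rcases mul_eq_zero.1 h4 with h5 | h5
      · exact absurd h5 (pow_ne_zero _ hb)
      · rw [herm_smul_left, h5, mul_zero]
    · have h4 := h1.tr
      rw [herm_smul_left, herm_smul_right, mul_pow, norm_pow_q hF, pow_q_pow_q hF]
      linear_combination (b * b ^ q) * h4
  refine mem_QQ.2 ⟨_, _, h3, ?_⟩
  congr 1
  apply ext_act
  intro v
  rw [act_siegel, act_siegel, h2]
  simp only [herm_smul_right, smul_smul, pow_q_pow_q hF]
  funext i
  simp only [Pi.add_apply, Pi.smul_apply, smul_eq_mul]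
  ring

/-- `H` acts trivially on `P / Q`. -/
theorem HH_conj_PP (hF : Fintype.card F = q ^ 2) {e f : Fin n → F} (H : Hyp q e f) {h x : PSU n F q}
    (hh : h ∈ HH hF H) (hx : x ∈ PP q e) : h * x * h⁻¹ * x⁻¹ ∈ QQ hF e H.ee := by
  obtain ⟨b, hb, hbq, rfl⟩ := hh
  obtain ⟨g, hg, rfl⟩ := mem_PP.1 hx
  rw [← map_inv, ← map_inv, ← map_mul, ← map_mul, ← map_mul]
  refine ⟨_, ?_, rfl⟩
  set h := hyp hF H b hb hbq with hhd
  have he : act h e = b • e := act_hyp_e hF H hb hbq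
  have he' : act h⁻¹ e = b⁻¹ • e := by
    symm
    rw [← act_eq_iff, act_smul, he, smul_smul, inv_mul_cancel₀ hb, one_smul]
  have hg' : act g⁻¹ e = e := ((act_eq_iff g).1 hg).symm
  -- `h` is trivial on `e^⊥ / e`
  have hmod : ∀ w, hermForm n F q w e = 0 → ∃ c : F, act h w = w + c • e := by
    intro w hw
    refine ⟨(b - 1) * hermForm n F q w f, ?_⟩
    rw [hhd, act_hyp, hw, mul_zero, zero_smul, add_zero]
  have hmod' : ∀ w, hermForm n F q w e = 0 → ∃ c : F, act h⁻¹ w = w + c • e := by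
    intro w hw
    obtain ⟨c, hc⟩ := hmod w hw
    refine ⟨-(c * b⁻¹), ?_⟩
    symm
    rw [← act_eq_iff, act_add, act_smul, hc, he, smul_smul, add_assoc, ← add_smul, neg_mul, mul_assoc,
      inv_mul_cancel₀ hb, mul_one, add_neg_cancel, zero_smul, add_zero]
  apply mem_siegG_of_act hF H.ee H.ff H.ef
  · rw [act_mul, act_mul, act_mul, hg', he', act_smul, hg, act_smul, he, smul_smul, inv_mul_cancel₀ hb, one_smul]
  · intro w hw
    have h1 : hermForm n F q (act g⁻¹ w) e = 0 := by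
      rw [← hg', herm_act, hw]
    obtain ⟨c, hc⟩ := hmod' _ h1
    obtain ⟨d, hd⟩ := hmod w hw
    refine ⟨d + c * b, ?_⟩
    rw [act_mul, act_mul, act_mul, hc, act_add, act_smul, act_act_inv, hg, act_add, act_smul, he, hd, smul_smul,
      add_smul]
    abel

theorem HH_conj_PP' [CharP F 2] (hF : Fintype.card F = q ^ 2) {e f : Fin n → F} (H : Hyp q e f) {h x : PSU n F q}
    (hh : h ∈ HH hF H) (hx : x ∈ PP q e) : h * x * h⁻¹ ∈ PP q e := by
  have h1 := mul_mem (QQ_le_PP hF H.ee (HH_conj_PP hF H hh hx)) hx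
  rwa [inv_mul_cancel_right] at h1

section Two

variable [CharP F 2]

omit [Fintype F] in
theorem fixed_of_tr {μ : F} (hμ : μ + μ ^ q = 0) : μ ^ q = μ := by
  have h1 : (2 : F) = 0 := CharTwo.two_eq_zero
  linear_combination hμ - μ * h1

/-- Square roots in the fixed field. -/
theorem exists_sqrt (q : ℕ) {c : F} (hc : c ^ q = c) : ∃ b : F, b ^ 2 = c ∧ b ^ q = b := by
  have hfr : Function.Bijective (frobenius F 2) := by
    rw [Finite.injective_iff_bijective.symm]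
    exact frobenius_inj F 2
  obtain ⟨b, hb⟩ := hfr.2 c
  rw [frobenius_def] at hb
  refine ⟨b, hb, hfr.1 ?_⟩
  rw [frobenius_def, frobenius_def, ← pow_mul, mul_comm q 2, pow_mul, hb, hc]

/-- `H` is transitive on the non-trivial elements of `RR e`. -/
theorem HH_trans (hF : Fintype.card F = q ^ 2) {e f : Fin n → F} (H : Hyp q e f) {x y : PSU n F q}
    (hx : x ∈ RR hF e H.ee) (hy : y ∈ RR hF e H.ee) (hx1 : x ≠ 1) (hy1 : y ≠ 1) :
    ∃ h ∈ HH hF H, h * x * h⁻¹ = y := by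
  obtain ⟨μ, hμ, rfl⟩ := mem_RR.1 hx
  obtain ⟨ν, hν, rfl⟩ := mem_RR.1 hy
  have hμ0 : μ ≠ 0 := by
    rintro rfl
    exact hx1 (by rw [transv_zero, map_one])
  have hν0 : ν ≠ 0 := by
    rintro rfl
    exact hy1 (by rw [transv_zero, map_one])
  obtain ⟨b, hb2, hbq⟩ := exists_sqrt (F := F) q (c := ν / μ) (by rw [div_pow, fixed_of_tr hμ, fixed_of_tr hν])
  have hb : b ≠ 0 := by
    rintro rfl
    rw [zero_pow two_ne_zero] at hb2
    exact div_ne_zero hν0 hμ0 hb2.symm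
  refine ⟨_, ⟨b, hb, hbq, rfl⟩, ?_⟩
  have h1 : b ^ 2 * μ = ν := by rw [hb2, div_mul_cancel₀ _ hμ0]
  have hμ' : b ^ 2 * μ + (b ^ 2 * μ) ^ q = 0 := by rw [h1]; exact hν
  rw [← map_inv, ← map_mul, ← map_mul, hyp_conj_transv hF H hb hbq hμ hμ']
  congr 1
  exact siegel_congr hF _ _ rfl rfl h1

/-- For `q > 2` some element of `H` moves some element of `RR e`; indeed it has no fixed points. -/
theorem exists_HH_free (hF : Fintype.card F = q ^ 2) (hn : 3 ≤ n) (hq : q ≠ 2) {e f : Fin n → F} (H : Hyp q e f) :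
    ∃ h ∈ HH hF H, ∀ x ∈ RR hF e H.ee, h * x * h⁻¹ = x → x = 1 := by
  have h2 := two_le hF
  -- an element of the fixed field different from `0`, `1`
  obtain ⟨b, hbq, hb0, hb1⟩ : ∃ b : F, b ^ q = b ∧ b ≠ 0 ∧ b ≠ 1 := by
    by_contra hcon
    push Not at hcon
    have h3 : ({x : F | x ^ q = x} : Set F) ⊆ {0, 1} := by
      intro x hx
      by_cases h0 : x = 0
      · left; exact h0
      · right; exact hcon x hx h0
    have h4 := Set.ncard_le_ncard h3
    have h5 : ({x : F | x ^ q = x} : Set F).ncard = q := card_fixed hF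
    rw [h5, Set.ncard_pair zero_ne_one] at h4
    omega
  refine ⟨_, ⟨b, hb0, hbq, rfl⟩, fun x hx hfix => ?_⟩
  obtain ⟨μ, hμ, rfl⟩ := mem_RR.1 hx
  have hμ' : b ^ 2 * μ + (b ^ 2 * μ) ^ q = 0 := by
    rw [mul_pow, ← pow_mul, mul_comm 2 q, pow_mul, hbq]
    linear_combination b ^ 2 * hμ
  rw [← map_inv, ← map_mul, ← map_mul, hyp_conj_transv hF H hb0 hbq hμ hμ'] at hfix
  have h3 := siegel_pr_inj hF hn _ _ hfix
  have h4 := congrArg (fun g => act g f) h3
  simp only [act_siegel] at h4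
  rw [smul_zero, add_zero, herm_zero_right hF, sub_zero, sub_zero, add_right_inj, H.fe hF, mul_one, mul_one] at h4
  have h5 := smul_left_injective F H.ne_zero h4
  have h6 : (b ^ 2 - 1) * μ = 0 := by linear_combination h5
  have hb2 : b ^ 2 - 1 ≠ 0 := by
    intro h7
    have h8 : (b - 1) ^ 2 = 0 := by
      have h9 : (2 : F) = 0 := CharTwo.two_eq_zero
      linear_combination h7 + (1 - b) * h9
    exact hb1 (sub_eq_zero.1 (pow_eq_zero_iff two_ne_zero |>.1 h8))
  have hμ0 : μ = 0 := (mul_eq_zero.1 h6).resolve_left hb2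
  subst hμ0
  rw [transv_zero, map_one]

end Two

end Cfsg.Agent.KFacts.Unit
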