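import Mathlib
import Cfsg.Agent.KFacts.Unit.GLAct
set_option linter.all false

/-!
# The transvections with centre on a totally isotropic line

`zz hF E p` = the image in `PSU` of the transvection with centre `p.1 e₀ + p.2 e₁` and parameter 1.
`zz_lin`: `GL₂(F)` acts, `n ≥ 6`. `zz_prod`: the product of the five is 1 if `|F| = 4`. `zz_ct`: an automorphism of odd
order modulo inner ones permuting them acts linearly, `|F| = 4`. `exists_dual2`: a totally isotropic pair has a dual pair.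
-/

set_option autoImplicit false

namespace Cfsg.Agent.KFacts.Unit

open Cfsg Cfsg.Agent.LieClassical.HermBasic Cfsg.Agent.LieClassical.HermSiegel
  Cfsg.Agent.LieClassical.HermGen Cfsg.Agent.LieClassical.SUBasic Matrix
  Cfsg.Agent.ClassicalGeometry.PSUAutBasic Cfsg.Agent.ClassicalGeometry.PSUAutSylow
  Cfsg.Agent.ClassicalGeometry.PSUAutUnip Cfsg.Agent.ClassicalGeometry.PSUAutPhi
  Cfsg.Agent.ClassicalGeometry.PSUAutExt

open Cfsg.Agent.ClassicalGeometry.PSUAutCount (gm semiConj toAut herm_gm act_semiConj herm_semi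
  gm_inv_mulVec gm_mulVec_inv)

variable {F : Type*} [Field F] [Fintype F] {q n : ℕ}

/-- A partner in `⟨e, f⟩^⊥`. -/
theorem exists_partner_perp (hF : Fintype.card F = q ^ 2) {e f x : Fin n → F} (H : Hyp q e f)
    (hxe : hermForm n F q x e = 0) (hxf : hermForm n F q x f = 0)
    (hx0 : x ≠ 0) (hxx : hermForm n F q x x = 0) :
    ∃ y, hermForm n F q y e = 0 ∧ hermForm n F q y f = 0 ∧ Hyp q x y := by
  obtain ⟨y0, hyy, hxy, -⟩ := exists_partner hF hx0 hxx
  have h1 : hermForm n F q x (prN q e f y0) = 1 := by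
    rw [prN_def, herm_sub_right hF, herm_sub_right hF, herm_smul_right, herm_smul_right, hxe, hxf, hxy]
    ring
  obtain ⟨c, hc⟩ := exists_iso_correct hF hxx (x := prN q e f y0) (by rw [h1]; exact one_ne_zero)
  refine ⟨prN q e f y0 + c • x, ?_, ?_, hxx, hc, ?_⟩
  · rw [herm_add_left, herm_smul_left, prN_e hF H, hxe]; ring
  · rw [herm_add_left, herm_smul_left, prN_f H, hxf]; ring
  · rw [herm_add_right hF, herm_smul_right, hxx, h1, mul_zero, add_zero]

/-- **A totally isotropic pair has a dual pair.** -/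
theorem exists_dual2 (hF : Fintype.card F = q ^ 2) {u v : Fin n → F} (huu : hermForm n F q u u = 0)
    (hvv : hermForm n F q v v = 0) (huv : hermForm n F q u v = 0)
    (hind : ∀ a b : F, a • u + b • v = 0 → a = 0 ∧ b = 0) :
    ∃ f : Fin 2 → (Fin n → F), Frm q ![u, v] f := by
  have hu0 : u ≠ 0 := by
    rintro rfl
    exact one_ne_zero (hind 1 0 (by simp)).1
  obtain ⟨f0, H0⟩ := exists_hyp hF hu0 huu
  obtain ⟨c, hc⟩ : ∃ c, c = hermForm n F q v f0 := ⟨_, rfl⟩
  obtain ⟨v', hv'⟩ : ∃ v', v' = v - c • u := ⟨_, rfl⟩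
  have h1 : hermForm n F q v' u = 0 := by
    rw [hv', herm_sub_left, herm_smul_left, huu, herm_eq_zero_swap hF huv]; ring
  have h2 : hermForm n F q v' f0 = 0 := by
    rw [hv', herm_sub_left, herm_smul_left, H0.ef, ← hc]; ring
  have h3 : v' ≠ 0 := by
    intro h
    have h4 := (hind (-c) 1 (by rw [← h, hv']; module)).2
    exact one_ne_zero h4
  have h4 : hermForm n F q v' v' = 0 := by
    rw [hv', herm_sub_left, herm_sub_right hF, herm_sub_right hF, herm_smul_left, herm_smul_left, herm_smul_right,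
      herm_smul_right, hvv, huu, huv, herm_eq_zero_swap hF huv]
    ring
  obtain ⟨f1, h5, h6, H1⟩ := exists_partner_perp hF H0 h1 h2 h3 h4
  have h7 : hermForm n F q v f1 = 1 := by
    have h8 := H1.ef
    rw [hv', herm_sub_left, herm_smul_left, herm_eq_zero_swap hF h5, mul_zero, sub_zero] at h8
    exact h8
  refine ⟨![f0 - (c ^ q) • f1, f1], ⟨?_, ?_, ?_⟩⟩
  · intro i j
    fin_cases i <;> fin_cases j
    · exact huu
    · exact huv
    · exact herm_eq_zero_swap hF huv
    · exact hvv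
  · intro i j
    fin_cases i <;> fin_cases j
    · change hermForm n F q (f0 - (c ^ q) • f1) (f0 - (c ^ q) • f1) = 0
      rw [herm_sub_left, herm_sub_right hF, herm_sub_right hF, herm_smul_left, herm_smul_left, herm_smul_right,
        herm_smul_right, H0.ff, H1.ff, h6, herm_eq_zero_swap hF h6]
      ring
    · change hermForm n F q (f0 - (c ^ q) • f1) f1 = 0
      rw [herm_sub_left, herm_smul_left, H1.ff, herm_eq_zero_swap hF h6]
      ring
    · change hermForm n F q f1 (f0 - (c ^ q) • f1) = 0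
      rw [herm_sub_right hF, herm_smul_right, H1.ff, h6]
      ring
    · exact H1.ff
  · intro i j
    fin_cases i <;> fin_cases j
    · change hermForm n F q u (f0 - (c ^ q) • f1) = 1
      rw [herm_sub_right hF, herm_smul_right, H0.ef, herm_eq_zero_swap hF h5]
      ring
    · change hermForm n F q u f1 = 0
      exact herm_eq_zero_swap hF h5
    · change hermForm n F q v (f0 - (c ^ q) • f1) = 0
      rw [herm_sub_right hF, herm_smul_right, pow_q_pow_q hF, h7, ← hc]
      ring
    · change hermForm n F q v f1 = 1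
      exact h7

/-! ### Linear maps of a line -/

/-- **`GL₂(F)` acts on a totally isotropic line**, `n ≥ 6`. -/
theorem exists_lin (hF : Fintype.card F = q ^ 2) (hn : 6 ≤ n) {e f : Fin 2 → (Fin n → F)} (E : Frm q e f)
    (A : (F × F) ≃ₗ[F] (F × F)) :
    ∃ g : SU n F q, ∀ p : F × F, act g (p.1 • e 0 + p.2 • e 1) = (A p).1 • e 0 + (A p).2 • e 1 := by
  obtain ⟨x, y, H, hxe, hye, hxf, hyf⟩ := exists_third hF hn E
  have E' := E.snoc hF H hxe hye hxf hyf
  obtain ⟨a, ha⟩ : ∃ a, a = (A (1, 0)).1 := ⟨_, rfl⟩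
  obtain ⟨b, hb⟩ : ∃ a, a = (A (0, 1)).1 := ⟨_, rfl⟩
  obtain ⟨c, hc⟩ : ∃ a, a = (A (1, 0)).2 := ⟨_, rfl⟩
  obtain ⟨d, hd⟩ : ∃ a, a = (A (0, 1)).2 := ⟨_, rfl⟩
  have hA1 : A (1, 0) = (a, c) := by rw [ha, hc]
  have hA2 : A (0, 1) = (b, d) := by rw [hb, hd]
  have hdet : a * d - b * c ≠ 0 := by
    intro h0
    have h1 : A (d, -c) = 0 := by
      have e1 : ((d, -c) : F × F) = d • (1, 0) + (-c) • (0, 1) := by ext <;> simp
      rw [e1, map_add, map_smul, map_smul, hA1, hA2]
      ext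
      · simp only [Prod.smul_mk, smul_eq_mul, Prod.mk_add_mk, Prod.fst_zero]
        linear_combination h0
      · simp only [Prod.smul_mk, smul_eq_mul, Prod.mk_add_mk, Prod.snd_zero]
        ring
    have h2 : A (b, -a) = 0 := by
      have e1 : ((b, -a) : F × F) = b • (1, 0) + (-a) • (0, 1) := by ext <;> simp
      rw [e1, map_add, map_smul, map_smul, hA1, hA2]
      ext
      · simp only [Prod.smul_mk, smul_eq_mul, Prod.mk_add_mk, Prod.fst_zero]
        ring
      · simp only [Prod.smul_mk, smul_eq_mul, Prod.mk_add_mk, Prod.snd_zero]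
        linear_combination -h0
    rw [LinearEquiv.map_eq_zero_iff] at h1 h2
    have hd0 : d = 0 := congrArg Prod.fst h1
    have hc0 : c = 0 := neg_eq_zero.1 (congrArg Prod.snd h1)
    have h3 : A (1, 0) = 0 := by
      have ha0 : a = 0 := neg_eq_zero.1 (congrArg Prod.snd h2)
      rw [hA1, ha0, hc0]; rfl
    rw [LinearEquiv.map_eq_zero_iff] at h3
    exact one_ne_zero (congrArg Prod.fst h3)
  obtain ⟨g, hg, -⟩ := exists_SL hF E' (M := !![a, b, 0; c, d, 0; 0, 0, (a * d - b * c)⁻¹]) (by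
    rw [det_fin_three]
    simp only [of_apply, cons_val', cons_val_zero, cons_val_one, cons_val, mul_zero, zero_mul, sub_zero, add_zero]
    field_simp)
  have s0 : (Fin.snoc (α := fun _ => Fin n → F) e x : Fin 3 → (Fin n → F)) 0 = e 0 := rfl
  have s1 : (Fin.snoc (α := fun _ => Fin n → F) e x : Fin 3 → (Fin n → F)) 1 = e 1 := rfl
  have s2 : (Fin.snoc (α := fun _ => Fin n → F) e x : Fin 3 → (Fin n → F)) 2 = x := rfl
  have g0 : act g (e 0) = a • e 0 + c • e 1 := by
    have h1 := hg 0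
    rw [Fin.sum_univ_three, s0, s1, s2] at h1
    simpa using h1
  have g1 : act g (e 1) = b • e 0 + d • e 1 := by
    have h1 := hg 1
    rw [Fin.sum_univ_three, s0, s1, s2] at h1
    simpa using h1
  refine ⟨g, fun p => ?_⟩
  have e1 : p = p.1 • ((1, 0) : F × F) + p.2 • ((0, 1) : F × F) := by ext <;> simp
  have e2 : A p = (p.1 * a + p.2 * b, p.1 * c + p.2 * d) := by
    conv_lhs => rw [e1]
    rw [map_add, map_smul, map_smul, hA1, hA2]
    ext <;> simp
  rw [act_add, act_smul, act_smul, g0, g1, e2]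
  module

/-! ### The transvections -/

theorem Frm.iso2 (hF : Fintype.card F = q ^ 2) {e f : Fin 2 → (Fin n → F)} (E : Frm q e f) (p p' : F × F) :
    hermForm n F q (p.1 • e 0 + p.2 • e 1) (p'.1 • e 0 + p'.2 • e 1) = 0 := by
  simp only [herm_add_left, herm_add_right hF, herm_smul_left, herm_smul_right, E.ee]
  ring

omit [Fintype F] in
theorem Frm.ind2 {e f : Fin 2 → (Fin n → F)} (E : Frm q e f) {a b : F}
    (h : a • e 0 + b • e 1 = 0) : a = 0 ∧ b = 0 := by
  have h0 := congrArg (fun v => hermForm n F q v (f 0)) h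
  have h1 := congrArg (fun v => hermForm n F q v (f 1)) h
  simp only [herm_add_left, herm_smul_left, herm_zero_left, E.ef] at h0 h1
  rw [if_true, if_neg (by decide), mul_one, mul_zero, add_zero] at h0
  rw [if_neg (by decide), if_true, mul_one, mul_zero, zero_add] at h1
  exact ⟨h0, h1⟩

section Two

variable [CharP F 2]

/-- The involution at the point `p` of the line. -/
def zz (hF : Fintype.card F = q ^ 2) {e f : Fin 2 → (Fin n → F)} (E : Frm q e f) (p : F × F) : PSU n F q :=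
  pr n F q (transv hF (p.1 • e 0 + p.2 • e 1) (E.iso2 hF p p) 1 one_tr)

theorem zz_def (hF : Fintype.card F = q ^ 2) {e f : Fin 2 → (Fin n → F)} (E : Frm q e f) (p : F × F) :
    zz hF E p = pr n F q (transv hF (p.1 • e 0 + p.2 • e 1) (E.iso2 hF p p) 1 one_tr) := rfl

theorem zz_comm (hF : Fintype.card F = q ^ 2) {e f : Fin 2 → (Fin n → F)} (E : Frm q e f) (p p' : F × F) :
    zz hF E p * zz hF E p' = zz hF E p' * zz hF E p := by
  rw [zz, zz, ← map_mul, ← map_mul]
  congr 1
  apply ext_act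
  intro v
  simp only [act_mul, act_transv, one_mul, herm_add_left, herm_smul_left, E.iso2 hF]
  module

/-- Transvections in `PSU` determine their centres. -/
theorem transv_pr_eq (hF : Fintype.card F = q ^ 2) (hn : 3 ≤ n) {u u' : Fin n → F} (hu : hermForm n F q u u = 0)
    (hu' : hermForm n F q u' u' = 0) (hu0 : u ≠ 0)
    (h : pr n F q (transv hF u hu 1 one_tr) = pr n F q (transv hF u' hu' 1 one_tr)) : ∃ c : F, u = c • u' := by
  have h1 := siegel_pr_inj hF hn _ _ h
  obtain ⟨f, -, huf, hfu⟩ := exists_partner hF hu0 hu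
  have h2 := congrArg (fun g => act g f) h1
  change act (transv hF u hu 1 one_tr) f = act (transv hF u' hu' 1 one_tr) f at h2
  rw [act_transv, act_transv, one_mul, one_mul, hfu, one_smul, add_right_inj] at h2
  exact ⟨_, h2⟩

theorem zz_inj (hF : Fintype.card F = q ^ 2) (hn : 3 ≤ n) {e f : Fin 2 → (Fin n → F)} (E : Frm q e f)
    {p p' : F × F} (_hp : p ≠ 0) (hp' : p' ≠ 0) (h : zz hF E p = zz hF E p') : ∃ c : F, p' = c • p := by
  have h0 : p'.1 • e 0 + p'.2 • e 1 ≠ 0 := fun h0 => by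
    obtain ⟨h1, h2⟩ := E.ind2 h0
    exact hp' (Prod.ext h1 h2)
  obtain ⟨c, hc⟩ := transv_pr_eq hF hn _ _ h0 h.symm
  refine ⟨c, ?_⟩
  have h1 : (p'.1 - c * p.1) • e 0 + (p'.2 - c * p.2) • e 1 = 0 := by
    rw [← sub_eq_zero.2 hc]
    module
  obtain ⟨h2, h3⟩ := E.ind2 h1
  exact Prod.ext (sub_eq_zero.1 h2) (sub_eq_zero.1 h3)

theorem conj_zz (hF : Fintype.card F = q ^ 2) {e f : Fin 2 → (Fin n → F)} (E : Frm q e f) {g : SU n F q}
    {p p' : F × F} (h : act g (p.1 • e 0 + p.2 • e 1) = p'.1 • e 0 + p'.2 • e 1) :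
    pr n F q g * zz hF E p * (pr n F q g)⁻¹ = zz hF E p' := by
  rw [zz, zz, ← map_inv, ← map_mul, ← map_mul, transv, conj_siegel, transv]
  congr 1
  exact siegel_congr hF _ _ h (act_zero g) rfl

/-- **`GL₂(F)` acts on the transvections of a totally isotropic line.** -/
theorem zz_lin (hF : Fintype.card F = q ^ 2) (hn : 6 ≤ n) {e f : Fin 2 → (Fin n → F)} (E : Frm q e f)
    (A : (F × F) ≃ₗ[F] (F × F)) : ∃ k : PSU n F q, ∀ p, k * zz hF E p * k⁻¹ = zz hF E (A p) := by
  obtain ⟨g, hg⟩ := exists_lin hF hn E A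
  exact ⟨pr n F q g, fun p => conj_zz hF E (hg p)⟩

omit [CharP F 2] in
theorem omega_sum (h4 : Fintype.card F = 4) {ω : F} (hω : ω ^ 2 ≠ ω) : 1 + ω + ω ^ 2 = 0 := by
  have h1 : ω ^ 4 = ω := by rw [← h4]; exact FiniteField.pow_card ω
  have h0 : ω ≠ 0 := by rintro rfl; exact hω (by ring)
  have h2 : ω - 1 ≠ 0 := by
    intro h
    apply hω
    rw [sub_eq_zero.1 h]; ring
  have h3 : ω * (ω - 1) * (1 + ω + ω ^ 2) = 0 := by linear_combination h1
  exact (mul_eq_zero.1 h3).resolve_left (mul_ne_zero h0 h2)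

theorem act_five (hF : Fintype.card F = q ^ 2) {s0 s1 s2 s3 s4 : Fin n → F}
    (h : ∀ x ∈ ({s0, s1, s2, s3, s4} : Set (Fin n → F)), ∀ y ∈ ({s0, s1, s2, s3, s4} : Set (Fin n → F)),
      hermForm n F q x y = 0) (h0 : hermForm n F q s0 s0 = 0) (h1 : hermForm n F q s1 s1 = 0)
    (h2 : hermForm n F q s2 s2 = 0) (h3 : hermForm n F q s3 s3 = 0) (h4 : hermForm n F q s4 s4 = 0) (v : Fin n → F) :
    act (transv hF s0 h0 1 one_tr * transv hF s1 h1 1 one_tr * transv hF s2 h2 1 one_tr * transv hF s3 h3 1 one_tr *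
      transv hF s4 h4 1 one_tr) v = v + hermForm n F q v s4 • s4 + hermForm n F q v s3 • s3 +
      hermForm n F q v s2 • s2 + hermForm n F q v s1 • s1 + hermForm n F q v s0 • s0 := by
  have a1 := h s4 (by simp) s3 (by simp)
  have a2 := h s4 (by simp) s2 (by simp)
  have a3 := h s3 (by simp) s2 (by simp)
  have a4 := h s4 (by simp) s1 (by simp)
  have a5 := h s3 (by simp) s1 (by simp)
  have a6 := h s2 (by simp) s1 (by simp)
  have a7 := h s4 (by simp) s0 (by simp)
  have a8 := h s3 (by simp) s0 (by simp)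
  have a9 := h s2 (by simp) s0 (by simp)
  have a10 := h s1 (by simp) s0 (by simp)
  simp only [act_mul, act_transv, one_mul, herm_add_left, herm_smul_left, a1, a2, a3, a4, a5, a6, a7, a8, a9, a10,
    mul_zero, add_zero]

/-- **The product of the five transvections of a line** over `F₄`. -/
theorem zz_prod (hF : Fintype.card F = q ^ 2) (hq : q = 2) {e f : Fin 2 → (Fin n → F)} (E : Frm q e f) {ω : F}
    (hω : ω ^ q ≠ ω) : zz hF E (1, 0) * zz hF E (0, 1) * zz hF E (1, 1) * zz hF E (1, ω) * zz hF E (1, ω ^ q) = 1 := by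
  subst hq
  have hs := omega_sum (F := F) (by rw [hF]; norm_num) hω
  simp only [zz, ← map_mul]
  rw [← map_one (pr n F 2)]
  congr 1
  apply ext_act
  intro v
  rw [act_five hF]
  · have h2 : (2 : F) = 0 := CharTwo.two_eq_zero
    obtain ⟨a, ha⟩ : ∃ a, a = hermForm n F 2 v (e 0) := ⟨_, rfl⟩
    obtain ⟨b, hb⟩ : ∃ a, a = hermForm n F 2 v (e 1) := ⟨_, rfl⟩
    have key : ∀ x y : F, hermForm n F 2 v (x • e 0 + y • e 1) = x ^ 2 * a + y ^ 2 * b := fun x y => by
      rw [herm_add_right hF, herm_smul_right, herm_smul_right, ha, hb]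
    simp only [key, act_one]
    have h4 : (ω ^ 2) ^ 2 = ω := pow_q_pow_q hF ω
    rw [h4]
    have e1 : (a + ω * b) + (a + ω ^ 2 * b) + (a + b) + a = 0 := by linear_combination b * hs + 2 * a * h2
    have e2 : (a + ω * b) * ω ^ 2 + (a + ω ^ 2 * b) * ω + (a + b) + b = 0 := by
      linear_combination a * hs + (b + b * ω ^ 3) * h2
    have e3 : v + ((a + ω * b) + (a + ω ^ 2 * b) + (a + b) + a) • e 0 +
      ((a + ω * b) * ω ^ 2 + (a + ω ^ 2 * b) * ω + (a + b) + b) • e 1 = v := by
      rw [e1, e2, zero_smul, zero_smul, add_zero, add_zero]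
    refine Eq.trans ?_ e3
    module
  · have mem : ∀ x ∈ ({(1 : F) • e 0 + (0 : F) • e 1, (0 : F) • e 0 + (1 : F) • e 1, (1 : F) • e 0 + (1 : F) • e 1,
        (1 : F) • e 0 + ω • e 1, (1 : F) • e 0 + ω ^ 2 • e 1} : Set (Fin n → F)), ∃ a b : F, x = a • e 0 + b • e 1 := by
      intro x hx
      simp only [Set.mem_insert_iff, Set.mem_singleton_iff] at hx
      rcases hx with h | h | h | h | h <;> exact ⟨_, _, h⟩
    intro x hx y hy
    obtain ⟨a, b, rfl⟩ := mem x hx
    obtain ⟨c, d, rfl⟩ := mem y hy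
    exact E.iso2 hF (a, b) (c, d)

end Two

end Cfsg.Agent.KFacts.Unit
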